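import Cfsg.Agent.Lib.CosetTable.Fi22Simple.Data
import Cfsg.Agent.Lib.CosetTable.Maximal
import Cfsg.Agent.Lib.CosetTable.Fi22a.Data

/-! Generated checks for the base and orbit data of `Fi22a`. -/

set_option Elab.async false

namespace Cfsg.Agent.Lib.CosetTable.Fi22Simple

open Cfsg.Agent.Lib.CosetTable

theorem lev1_run1 : rangeAll (lev1.reachOK Fi22a.tab ws1) 256 0 = true := by decide +kernel

theorem lev1_run2 : rangeAll (lev1.reachOK Fi22a.tab ws1) 256 256 = true := by decide +kernel

theorem lev1_run3 : rangeAll (lev1.reachOK Fi22a.tab ws1) 256 512 = true := by decide +kernel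

theorem lev1_run4 : rangeAll (lev1.reachOK Fi22a.tab ws1) 256 768 = true := by decide +kernel

theorem lev1_run5 : rangeAll (lev1.reachOK Fi22a.tab ws1) 256 1024 = true := by decide +kernel

theorem lev1_run6 : rangeAll (lev1.reachOK Fi22a.tab ws1) 256 1280 = true := by decide +kernel

theorem lev1_run7 : rangeAll (lev1.reachOK Fi22a.tab ws1) 256 1536 = true := by decide +kernel

theorem lev1_run8 : rangeAll (lev1.reachOK Fi22a.tab ws1) 256 1792 = true := by decide +kernel

theorem lev1_run9 : rangeAll (lev1.reachOK Fi22a.tab ws1) 256 2048 = true := by decide +kernel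

theorem lev1_run10 : rangeAll (lev1.reachOK Fi22a.tab ws1) 256 2304 = true := by decide +kernel

theorem lev1_run11 : rangeAll (lev1.reachOK Fi22a.tab ws1) 256 2560 = true := by decide +kernel

theorem lev1_run12 : rangeAll (lev1.reachOK Fi22a.tab ws1) 256 2816 = true := by decide +kernel

theorem lev1_run13 : rangeAll (lev1.reachOK Fi22a.tab ws1) 256 3072 = true := by decide +kernel

theorem lev1_run14 : rangeAll (lev1.reachOK Fi22a.tab ws1) 182 3328 = true := by decide +kernel

theorem lev1_ok : Below (lev1.reachOK Fi22a.tab ws1) lev1.m :=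
  ((((((((((((((Below.zero _).step (b := 256) lev1_run1 rfl).step (b := 512) lev1_run2 rfl).step (b := 768) lev1_run3 rfl).step (b := 1024) lev1_run4 rfl).step (b := 1280) lev1_run5 rfl).step (b := 1536) lev1_run6 rfl).step (b := 1792) lev1_run7 rfl).step (b := 2048) lev1_run8 rfl).step (b := 2304) lev1_run9 rfl).step (b := 2560) lev1_run10 rfl).step (b := 2816) lev1_run11 rfl).step (b := 3072) lev1_run12 rfl).step (b := 3328) lev1_run13 rfl).step (b := 3510) lev1_run14 rfl

theorem lev2_run1 : rangeAll (lev2.reachOK Fi22a.tab ws2) 256 0 = true := by decide +kernel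

theorem lev2_run2 : rangeAll (lev2.reachOK Fi22a.tab ws2) 256 256 = true := by decide +kernel

theorem lev2_run3 : rangeAll (lev2.reachOK Fi22a.tab ws2) 181 512 = true := by decide +kernel

theorem lev2_ok : Below (lev2.reachOK Fi22a.tab ws2) lev2.m :=
  (((Below.zero _).step (b := 256) lev2_run1 rfl).step (b := 512) lev2_run2 rfl).step (b := 693) lev2_run3 rfl

theorem lev3_run1 : rangeAll (lev3.reachOK Fi22a.tab ws3) 256 0 = true := by decide +kernel

theorem lev3_run2 : rangeAll (lev3.reachOK Fi22a.tab ws3) 256 256 = true := by decide +kernel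

theorem lev3_ok : Below (lev3.reachOK Fi22a.tab ws3) lev3.m :=
  ((Below.zero _).step (b := 256) lev3_run1 rfl).step (b := 512) lev3_run2 rfl

theorem lev4_run1 : rangeAll (lev4.reachOK Fi22a.tab ws4) 135 0 = true := by decide +kernel

theorem lev4_ok : Below (lev4.reachOK Fi22a.tab ws4) lev4.m :=
  (Below.zero _).step (b := 135) lev4_run1 rfl

theorem lev5_run1 : rangeAll (lev5.reachOK Fi22a.tab ws5) 32 0 = true := by decide +kernel

theorem lev5_ok : Below (lev5.reachOK Fi22a.tab ws5) lev5.m :=
  (Below.zero _).step (b := 32) lev5_run1 rfl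

theorem lev6_run1 : rangeAll (lev6.reachOK Fi22a.tab ws6) 3 0 = true := by decide +kernel

theorem lev6_ok : Below (lev6.reachOK Fi22a.tab ws6) lev6.m :=
  (Below.zero _).step (b := 3) lev6_run1 rfl

theorem lev7_run1 : rangeAll (lev7.reachOK Fi22a.tab ws7) 4 0 = true := by decide +kernel

theorem lev7_ok : Below (lev7.reachOK Fi22a.tab ws7) lev7.m :=
  (Below.zero _).step (b := 4) lev7_run1 rfl

theorem levels_ok : LevelsOK Fi22a.cert Fi22a.tab levels :=
  ⟨⟨by decide +kernel, lev1_ok, by decide +kernel, by decide +kernel⟩,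
   ⟨by decide +kernel, lev2_ok, by decide +kernel, by decide +kernel⟩,
   ⟨by decide +kernel, lev3_ok, by decide +kernel, by decide +kernel⟩,
   ⟨by decide +kernel, lev4_ok, by decide +kernel, by decide +kernel⟩,
   ⟨by decide +kernel, lev5_ok, by decide +kernel, by decide +kernel⟩,
   ⟨by decide +kernel, lev6_ok, by decide +kernel, by decide +kernel⟩,
   ⟨by decide +kernel, lev7_ok, by decide +kernel, by decide +kernel⟩,
   trivial⟩

theorem levels_card : levelsCard levels = 64561751654400 := by decide +kernel

theorem elt_run1 : rangeAll (Fi22a.tab.fixOK [(List.replicate 13 elt).flatten]) 256 0 = true := by decide +kernel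

theorem elt_run2 : rangeAll (Fi22a.tab.fixOK [(List.replicate 13 elt).flatten]) 256 256 = true := by decide +kernel

theorem elt_run3 : rangeAll (Fi22a.tab.fixOK [(List.replicate 13 elt).flatten]) 256 512 = true := by decide +kernel

theorem elt_run4 : rangeAll (Fi22a.tab.fixOK [(List.replicate 13 elt).flatten]) 256 768 = true := by decide +kernel

theorem elt_run5 : rangeAll (Fi22a.tab.fixOK [(List.replicate 13 elt).flatten]) 256 1024 = true := by decide +kernel

theorem elt_run6 : rangeAll (Fi22a.tab.fixOK [(List.replicate 13 elt).flatten]) 256 1280 = true := by decide +kernel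

theorem elt_run7 : rangeAll (Fi22a.tab.fixOK [(List.replicate 13 elt).flatten]) 256 1536 = true := by decide +kernel

theorem elt_run8 : rangeAll (Fi22a.tab.fixOK [(List.replicate 13 elt).flatten]) 256 1792 = true := by decide +kernel

theorem elt_run9 : rangeAll (Fi22a.tab.fixOK [(List.replicate 13 elt).flatten]) 256 2048 = true := by decide +kernel

theorem elt_run10 : rangeAll (Fi22a.tab.fixOK [(List.replicate 13 elt).flatten]) 256 2304 = true := by decide +kernel

theorem elt_run11 : rangeAll (Fi22a.tab.fixOK [(List.replicate 13 elt).flatten]) 256 2560 = true := by decide +kernel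

theorem elt_run12 : rangeAll (Fi22a.tab.fixOK [(List.replicate 13 elt).flatten]) 256 2816 = true := by decide +kernel

theorem elt_run13 : rangeAll (Fi22a.tab.fixOK [(List.replicate 13 elt).flatten]) 256 3072 = true := by decide +kernel

theorem elt_run14 : rangeAll (Fi22a.tab.fixOK [(List.replicate 13 elt).flatten]) 182 3328 = true := by decide +kernel

theorem elt_pow : Below (Fi22a.tab.fixOK [(List.replicate 13 elt).flatten]) 3510 :=
  ((((((((((((((Below.zero _).step (b := 256) elt_run1 rfl).step (b := 512) elt_run2 rfl).step (b := 768) elt_run3 rfl).step (b := 1024) elt_run4 rfl).step (b := 1280) elt_run5 rfl).step (b := 1536) elt_run6 rfl).step (b := 1792) elt_run7 rfl).step (b := 2048) elt_run8 rfl).step (b := 2304) elt_run9 rfl).step (b := 2560) elt_run10 rfl).step (b := 2816) elt_run11 rfl).step (b := 3072) elt_run12 rfl).step (b := 3328) elt_run13 rfl).step (b := 3510) elt_run14 rfl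

theorem cover_run1 : rangeAll (covered [Fi22a.orb1, Fi22a.orb2]) 512 0 = true := by decide +kernel

theorem cover_run2 : rangeAll (covered [Fi22a.orb1, Fi22a.orb2]) 512 512 = true := by decide +kernel

theorem cover_run3 : rangeAll (covered [Fi22a.orb1, Fi22a.orb2]) 512 1024 = true := by decide +kernel

theorem cover_run4 : rangeAll (covered [Fi22a.orb1, Fi22a.orb2]) 512 1536 = true := by decide +kernel

theorem cover_run5 : rangeAll (covered [Fi22a.orb1, Fi22a.orb2]) 512 2048 = true := by decide +kernel

theorem cover_run6 : rangeAll (covered [Fi22a.orb1, Fi22a.orb2]) 512 2560 = true := by decide +kernel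

theorem cover_run7 : rangeAll (covered [Fi22a.orb1, Fi22a.orb2]) 438 3072 = true := by decide +kernel

theorem covered_ok : Below (covered [Fi22a.orb1, Fi22a.orb2]) 3510 :=
  (((((((Below.zero _).step (b := 512) cover_run1 rfl).step (b := 1024) cover_run2 rfl).step (b := 1536) cover_run3 rfl).step (b := 2048) cover_run4 rfl).step (b := 2560) cover_run5 rfl).step (b := 3072) cover_run6 rfl).step (b := 3510) cover_run7 rfl

end Cfsg.Agent.Lib.CosetTable.Fi22Simple
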